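import Cfsg.Agent.H389.R.W4

set_option autoImplicit false
set_option linter.unusedSectionVars false
set_option linter.unusedVariables false

namespace Cfsg.Agent.H389.RSq

open Subgroup
open Cfsg.Agent.H389.JSq (Has)
open Cfsg.Agent.H381.Tools
open Cfsg.Agent.OddOrderLocal.HallPi (prime_dvd_card)

universe u

section
variable {m : ℕ} {σ : Fin 5 → ℕ} {X Y : Type u} [Group X] [Finite X] [Group Y] [Finite Y] {f : X →* Y}
  {D P : Subgroup X} {E K L : Subgroup Y} {H : Set ℕ → Subgroup X}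

theorem C2.comm_of_coprime {A B : Subgroup X} (hAB : A ≤ normalizer (B : Set X)) (hBA : B ≤ normalizer (A : Set X))
    (hc : (Nat.card A).Coprime (Nat.card B)) : A ≤ centralizer (B : Set X) := by
  intro x hx
  rw [mem_centralizer_iff]
  intro y hy
  have h1 : x * y * x⁻¹ ∈ B := (mem_normalizer_iff.mp (hAB hx) y).mp hy
  have h2 : y * x⁻¹ * y⁻¹ ∈ A := (mem_normalizer_iff.mp (hBA hy) x⁻¹).mp (A.inv_mem hx)
  have h3 : x * y * x⁻¹ * y⁻¹ ∈ A ⊓ B := by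
    refine ⟨?_, B.mul_mem h1 (B.inv_mem hy)⟩
    have : x * y * x⁻¹ * y⁻¹ = x * (y * x⁻¹ * y⁻¹) := by group
    rw [this]
    exact A.mul_mem hx h2
  rw [(disjoint_of_coprime_natCard hc).eq_bot, mem_bot] at h3
  have h4 : x * y * x⁻¹ = y := mul_inv_eq_one.mp h3
  rw [mul_inv_eq_iff_eq_mul] at h4
  exact h4.symm

theorem C2.isPGroup_of_hall {w : ℕ} (hw : w.Prime) {J M : Subgroup X} (h : Cfsg.IsPiHallOf {w} J M) : IsPGroup w J := by
  have : Fact w.Prime := ⟨hw⟩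
  have h1 : Nat.card J ≠ 0 := Nat.card_pos.ne'
  have h2 := Nat.eq_prime_pow_of_unique_prime_dvd h1 (p := w) (fun {q} hq hd =>
    Set.mem_singleton_iff.1 (h.2.1 q hq hd))
  exact IsPGroup.of_card h2

theorem C2.ne_bot_of_hall {w : ℕ} (hw : w.Prime) {J M : Subgroup X} (h : Cfsg.IsPiHallOf {w} J M) (hd : w ∣ Nat.card M) :
    J ≠ ⊥ := by
  intro h0
  have h1 := prime_dvd_card h hw (Set.mem_singleton w) hd
  rw [h0, card_bot] at h1
  exact hw.one_lt.ne' (Nat.dvd_one.1 h1)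

theorem M0.no_two (h : M0 m σ f) (C : Cov f D E P H) (hE : ⁅E, E⁆ = E)
    (hm : ∀ ℓ : ℕ, ℓ.Prime → ℓ ≠ 2 → NoMult ℓ E) {a b w : ℕ} (T : Tri m a b w)
    (ha : a ∣ Nat.card (P ⊓ f.ker : Subgroup X)) (hb : b ∣ Nat.card (P ⊓ f.ker : Subgroup X))
    (hw : w ∣ Nat.card (D ⊓ f.ker : Subgroup X)) : False := by
  have hs := h.hs D
  obtain ⟨J, hJ⟩ := C.exists_J hs
  have hA := C2.isPGroup_of_hall T.hp (hJ a).1
  have hB := C2.isPGroup_of_hall T.hq (hJ b).1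
  have hA1 := C2.ne_bot_of_hall T.hp (hJ a).1 ha
  have hB1 := C2.ne_bot_of_hall T.hq (hJ b).1 hb
  have hAP : J a ≤ P := (hJ a).1.1.trans inf_le_left
  have hBP : J b ≤ P := (hJ b).1.1.trans inf_le_left
  have hPw := C.norm {w}
  refine h.cl.jj T hA hB (C.isPGroup_hall T.hr) (C.not_isCyclic hs hE T.hp (hm a T.hp T.p2) (hJ a).1 (hJ a).2 hA1)
    (C.not_isCyclic hs hE T.hq (hm b T.hq T.q2) (hJ b).1 (hJ b).2 hB1) (C.hall_ne_bot T.hr hw)
    (hAP.trans hPw) (hBP.trans hPw) (C2.comm_of_coprime (hAP.trans (hJ b).2) (hBP.trans (hJ a).2) ?_)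
  have : Fact a.Prime := ⟨T.hp⟩
  have : Fact b.Prime := ⟨T.hq⟩
  exact IsPGroup.coprime_card_of_ne a b T.npq _ _ hA hB

theorem M0.tlem (h : M0 m σ f) {y : X} {ρ a b t : ℕ} (T : Tri m ρ a b) (hy : orderOf y = ρ) (hK : IsK L)
    (hL : L ≤ (centralizer {y}).map f) (ha : a ∣ Nat.card (centralizer {y} ⊓ f.ker : Subgroup X))
    (hb : b ∣ Nat.card (centralizer {y} ⊓ f.ker : Subgroup X)) (htL : t ∣ Nat.card L)
    (ht : t = a ∨ t = b ∨ (Tri m t a b ∧ cls m t ≠ cls m ρ)) : False := by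
  rcases ht with rfl | rfl | ⟨T', ht⟩
  · refine h.cl.no_cent T hy le_rfl ?_
    exact has_of_dvd (h.hs _) (h.hodd _) hL hK.simple hK.perfect T.hq T.hr T.nqr T.q2 T.r2
      (noMult hK T.hq T.q2) ha hb htL
  · refine h.cl.no_cent T hy le_rfl ?_
    rw [mul_comm]
    exact has_of_dvd (h.hs _) (h.hodd _) hL hK.simple hK.perfect T.hr T.hq T.nqr.symm T.r2 T.q2
      (noMult hK T.hr T.r2) hb ha htL
  · refine h.cl.no_cent_coclique T'.rot T.hp T.p2 T.pq T.pr ht.symm hy (D := centralizer {y})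
      (N := centralizer {y} ⊓ f.ker) le_rfl (h.hs _) inf_le_left (Cov.le_normalizer_ker _ f) ha hb ?_
    exact (htL.trans (card_dvd_of_le hL)).trans (card_map_dvd (centralizer {y}) f)

theorem M0.no_three (h : M0 m σ f) {y : X} {ρ a b c : ℕ} (T : Tri m a b c) (hρ : ρ.Prime) (hρ2 : ρ ≠ 2)
    (ca : cls m ρ ≠ cls m a) (cb : cls m ρ ≠ cls m b) (cc : cls m ρ ≠ cls m c) (hy : orderOf y = ρ)
    (ha : a ∣ Nat.card (centralizer {y} ⊓ f.ker : Subgroup X))
    (hb : b ∣ Nat.card (centralizer {y} ⊓ f.ker : Subgroup X))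
    (hc : c ∣ Nat.card (centralizer {y} ⊓ f.ker : Subgroup X)) : False :=
  h.cl.no_cent_solvable T hρ hρ2 ca cb cc hy inf_le_left (h.hs _) ha hb hc

theorem M0.pivot_cent (h : M0 m σ f) {y : X} {ρ r w v : ℕ} (T : Tri m ρ r w) (hy : orderOf y = ρ)
    (hLs : IsSimpleGroup L) (hL : L ≤ (centralizer {y}).map f) (hv : v.Prime) (hvr : v ≠ r) (hvw : v ≠ w)
    (hpiv : Piv L v r) (hw : w ∣ Nat.card (centralizer {y} ⊓ f.ker : Subgroup X))
    (hr : ¬ r ∣ Nat.card (centralizer {y} ⊓ f.ker : Subgroup X)) : False := by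
  obtain ⟨P, H, C⟩ := h.exists_cov hL
  obtain ⟨x, hx, hxr, -, hfix⟩ := C.pivot (h.hodd _) hLs le_rfl hv T.hq hvr hpiv
    (fun hd => hr (hd.trans (card_dvd_of_le (inf_le_inf_right _ C.le))))
  have h1 := hfix w T.hr T.nqr.symm hvw.symm (H {w}) (C.isPGroup_hall T.hr) (C.hall_ne_bot T.hr hw) (C.norm {w})
  obtain ⟨z, hz, hzo⟩ := exists_mem_of_ne_bot T.hr ((C.isPGroup_hall T.hr).to_le inf_le_left) h1
  rw [mem_fix] at hz
  have hzc : z ∈ centralizer {y} := (C.hall_le {w} hz.1).1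
  exact h.cl.no_comm T hy hxr hzo (mem_cent_iff.mp (C.le hx)) (mem_cent_iff.mp hzc) hz.2

theorem M0.e1 (h : M0 m σ f) [K.Normal] (hK : IsK K) {i j : Fin 5} (hij : i ≠ j) (hi : ¬ σ i ∣ Nat.card K)
    (hj : ¬ σ j ∣ Nat.card K) (hi' : ¬ σ i ∣ Nat.card f.ker) : σ j ∣ Nat.card f.ker := by
  by_contra hj'
  obtain ⟨g, hg⟩ := h.k5 i j hij
  have hi0 : i ≠ 0 := by
    rintro rfl
    exact hi (h.sig.zero ▸ hK.three_dvd)
  have hj0 : j ≠ 0 := by
    rintro rfl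
    exact hj (h.sig.zero ▸ hK.three_dvd)
  have hcop : (orderOf g).Coprime (Nat.card f.ker) := by
    rw [hg]
    exact Nat.Coprime.mul_left (((h.sig.prime i).coprime_iff_not_dvd).mpr hi')
      (((h.sig.prime j).coprime_iff_not_dvd).mpr hj')
  have hfg : orderOf (f g) = σ i * σ j := by
    rw [Cfsg.Agent.H389.JSq.orderOf_map_eq f hcop, hg]
  have hcK : (orderOf (f g)).Coprime (Nat.card K) := by
    rw [hfg]
    exact Nat.Coprime.mul_left (((h.sig.prime i).coprime_iff_not_dvd).mpr hi)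
      (((h.sig.prime j).coprime_iff_not_dvd).mpr hj)
  have hodd : Odd (orderOf (f g)) := by
    rw [hfg]
    exact ((h.sig.prime i).odd_of_ne_two (h.sig.ne_two i)).mul ((h.sig.prime j).odd_of_ne_two (h.sig.ne_two j))
  obtain ⟨z, hzK, hz3, hcz⟩ := exists_comm_three hK.exists_three hcK hodd
  have h3 : Has Y (σ i * σ j * 3) := by
    refine Has.of_commute hcz hfg hz3 ?_
    rw [← h.sig.zero]
    exact Nat.Coprime.mul_left (h.sig.coprime hi0) (h.sig.coprime hj0)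
  obtain ⟨x, hx⟩ := Has.of_surjective f h.surj h3
  refine h.cl.no_has (h.sig.tri hij hi0 hj0) (g := x) ?_ ?_ ?_
  · rw [hx, mul_assoc]; exact Dvd.intro _ rfl
  · rw [hx, mul_comm (σ i), mul_assoc]; exact Dvd.intro _ rfl
  · rw [hx, h.sig.zero]; exact Dvd.intro_left _ rfl

theorem M2.f1 (h : M2 m σ f K L) {a b c : ℕ} (T : Tri m a b c) (hab : Has K (a * b)) (hc : c ∣ Nat.card L) :
    False := by
  obtain ⟨⟨g, hgK⟩, hg⟩ := hab
  obtain ⟨⟨z, hzL⟩, hz⟩ := Has.of_prime_dvd T.hr hc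
  rw [← Subgroup.orderOf_coe] at hg hz
  have hcz : Commute g z := (mem_centralizer_iff.mp (h.comm hgK) z hzL).symm
  have h3 : Has Y (a * b * c) := by
    refine Has.of_commute hcz hg hz ?_
    exact Nat.Coprime.mul_left ((Nat.coprime_primes T.hp T.hr).mpr T.npr) ((Nat.coprime_primes T.hq T.hr).mpr T.nqr)
  obtain ⟨x, hx⟩ := Has.of_surjective f h.surj h3
  refine h.cl.no_has T (g := x) ?_ ?_ ?_
  · rw [hx, mul_assoc]; exact Dvd.intro _ rfl
  · rw [hx, mul_comm a, mul_assoc]; exact Dvd.intro _ rfl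
  · rw [hx]; exact Dvd.intro_left _ rfl

theorem M2.simpleK (h : M2 m σ f K L) : IsSimpleGroup K := h.isKK.simple

theorem M2.perfect (h : M2 m σ f K L) : ⁅(K ⊔ L : Subgroup Y), (K ⊔ L : Subgroup Y)⁆ = K ⊔ L := by
  apply le_antisymm
  · exact commutator_le.mpr fun a ha b hb => mul_mem (mul_mem (mul_mem ha hb) (inv_mem ha)) (inv_mem hb)
  · apply sup_le
    · conv_lhs => rw [← h.isKK.perfect]
      exact commutator_mono le_sup_left le_sup_left
    · conv_lhs => rw [← h.isKL.perfect]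
      exact commutator_mono le_sup_right le_sup_right

theorem M2.noMult (h : M2 m σ f K L) {ℓ : ℕ} (hℓ : ℓ.Prime) (hℓ2 : ℓ ≠ 2) : NoMult ℓ (K ⊔ L : Subgroup Y) :=
  NoMult.sup hℓ h.comm h.inf h.isKK.perfect h.isKL.perfect (RSq.noMult h.isKK hℓ hℓ2) (RSq.noMult h.isKL hℓ hℓ2)

theorem M2.le_map (h : M2 m σ f K L) (C : Cov f D (K ⊔ L) P H) {x : X} (hx : x ∈ P) (hxK : f x ∈ K)
    (hc : (orderOf x).Coprime (Nat.card (P ⊓ f.ker : Subgroup X))) : L ≤ (centralizer {x}).map f := by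
  refine C.le_map_centralizer hx hc le_sup_right ?_
  intro y hy
  rw [mem_cent_iff]
  exact (mem_centralizer_iff.mp (h.comm hxK) y hy).symm

theorem M2.e1 (h : M2 m σ f K L) {i j : Fin 5} (hij : i ≠ j) (hi : i ∉ Lam σ K) (hj : j ∉ Lam σ K)
    (hi' : ¬ σ i ∣ Nat.card f.ker) : σ j ∣ Nat.card f.ker := by
  have := h.normalK
  refine h.toM0.e1 (K := K) h.isKK hij ?_ ?_ hi'
  · intro hd; exact hi (Finset.mem_filter.mpr ⟨Finset.mem_univ _, hd⟩)
  · intro hd; exact hj (Finset.mem_filter.mpr ⟨Finset.mem_univ _, hd⟩)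

end

end Cfsg.Agent.H389.RSq
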