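import Cfsg.Agent.H389.R.Gamma
import Cfsg.Agent.H248.S3530.Assembly
import Cfsg.Agent.H582.S3530.Odd
import Cfsg.Agent.H65.S3530.Ree2
import Cfsg.Agent.H362.ReeField
import Cfsg.Agent.S0205
import Cfsg.Agent.Lib.Cores

/-!
# S3530: the assembly (helper389)
-/

set_option autoImplicit false

namespace Cfsg.Agent.H389.RSq

open Subgroup
open Cfsg.Agent.H389.JSq (Has)

universe u

section
variable {m : ℕ} {σ : Fin 5 → ℕ} {X Y : Type u} [Group X] [Finite X] [Group Y] [Finite Y]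

/-- a minimal subgroup joining all the classes -/
theorem exists_min (hm : 1 ≤ m) (S : Sig m σ) (hcl : Cl m X) (h5 : K5 σ X) : ∃ M : Subgroup X, Min m σ M := by
  obtain ⟨M, hM5, hMmin⟩ := WellFounded.has_min (wellFounded_lt (α := Subgroup X)) {M | K5 σ M}
    ⟨⊤, fun i j hij => (h5 i j hij).of_injective (topEquiv.symm : X ≃* (⊤ : Subgroup X)).toMonoidHom
      (topEquiv.symm : X ≃* (⊤ : Subgroup X)).injective⟩
  refine ⟨M, hm, S, hcl.subgroup M, hM5, fun H hH => ?_⟩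
  by_contra hne
  have hlt : H.map M.subtype < M := by
    refine lt_of_le_of_ne (map_subtype_le H) fun heq => hne ?_
    rw [eq_top_iff]
    intro x _
    have hx : (x : X) ∈ H.map M.subtype := by rw [heq]; exact x.2
    obtain ⟨y, hy, hyx⟩ := hx
    have : y = x := Subtype.ext hyx
    exact this ▸ hy
  refine hMmin (H.map M.subtype) (fun i j hij => ?_) hlt
  exact (hH i j hij).of_injective (H.equivMapOfInjective M.subtype M.subtype_injective).toMonoidHom
    (H.equivMapOfInjective M.subtype M.subtype_injective).injective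

/-- two Ree groups in the minimal subgroup -/
theorem M2.rr {f : X →* Y} {K L : Subgroup Y} (h : M2 m σ f K L) : RR m Y K L := by
  have key : IsRee m K ∧ IsRee m L := by
    by_cases hK : IsRee m K
    · exact ⟨hK, h.ree_of_ree hK⟩
    by_cases hL : IsRee m L
    · exact ⟨h.symm.ree_of_ree hL, hL⟩
    exfalso
    by_cases h2L : ∃ e, IsL2 2 e L
    · obtain ⟨e, he⟩ := h2L
      exact h.gamma hK he
    by_cases h2K : ∃ e, IsL2 2 e K
    · obtain ⟨e, he⟩ := h2K
      exact h.symm.gamma hL he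
    exact h.no_odd hK hL (fun e he => h2K ⟨e, he⟩) (fun e he => h2L ⟨e, he⟩)
  exact ⟨h.normalK, h.normalL, key.1, key.2, h.comm, h.inf, h.cent, h.index⟩

/-- a group which is the product of two Ree groups -/
theorem exists_prod (hm : 1 ≤ m) (S : Sig m σ) (hcl : Cl m X) (h5 : K5 σ X) :
    ∃ K L : Subgroup (X ⧸ Cfsg.pPrimeCore 2 X), RR m (X ⧸ Cfsg.pPrimeCore 2 X) K L := by
  obtain ⟨M, hM⟩ := exists_min hm S hcl h5
  have hM2 : ∃ K L, M2 m σ (QuotientGroup.mk' (Cfsg.pPrimeCore 2 M)) K L := by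
    rcases hM.red' with ⟨K, hK⟩ | h
    · exfalso
      rcases hK.isK with ⟨s, e, h⟩ | ⟨m₁, h⟩
      · exact hK.l2_false h
      · exact hK.ree_false h
    · exact h
  obtain ⟨K, L, h⟩ := hM2
  exact exists_RR S hcl h.rr

omit [Finite Y] in
/-- the product of two commuting subgroups -/
theorem nonempty_mulEquiv_prod {K L : Subgroup Y} (hKL : K ≤ centralizer (L : Set Y)) (hinf : K ⊓ L = ⊥)
    (hsup : K ⊔ L = ⊤) : Nonempty (Y ≃* K × L) := by
  have hc : ∀ (x : K) (y : L), Commute (K.subtype x) (L.subtype y) := fun x y =>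
    (mem_centralizer_iff.mp (hKL x.2) y y.2).symm
  refine ⟨(MulEquiv.ofBijective (MonoidHom.noncommCoprod K.subtype L.subtype hc) ⟨?_, ?_⟩).symm⟩
  · rw [MonoidHom.noncommCoprod_injective]
    refine ⟨K.subtype_injective, L.subtype_injective, ?_⟩
    rw [range_subtype, range_subtype]
    exact disjoint_iff.mpr hinf
  · rw [← MonoidHom.range_eq_top, MonoidHom.noncommCoprod_range, range_subtype, range_subtype]
    exact hsup

theorem core_odd' (X : Type u) [Group X] [Finite X] : Odd (Nat.card (Cfsg.pPrimeCore 2 X)) :=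
  Nat.coprime_two_right.mp (Lib.Cores.pPrimeCore_coprime (G := X) 2)

end

theorem main (m : ℕ) (hm : 1 ≤ m) {F : Type*} [Field F] [Fintype F] (hF : Fintype.card F = 3 ^ (2 * m + 1))
    {X : Type u} [Group X] [Finite X]
    (h : Set.range (orderOf : X → ℕ) = Set.range (orderOf :
      ↥(Cfsg.Lie.twistedG2 F (3 ^ m)) × ↥(Cfsg.Lie.twistedG2 F (3 ^ m)) → ℕ)) :
    Nonempty (X ≃* ↥(Cfsg.Lie.twistedG2 F (3 ^ m)) × ↥(Cfsg.Lie.twistedG2 F (3 ^ m))) := by
  obtain ⟨σ, S⟩ := exists_sig hm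
  obtain ⟨hcl, h5⟩ := cl_of_range hm hF h
  obtain ⟨K, L, hRR⟩ := exists_prod hm S hcl (h5 σ S)
  have hodd := core_odd' X
  have hker : (QuotientGroup.mk' (Cfsg.pPrimeCore 2 X)).ker = ⊥ := by
    refine H127KerBot.ker_eq_bot_of hRR S hm ?_ hcl (QuotientGroup.mk'_surjective _) ?_ ?_
    · intro Z _ _ g hZ hg hE hmin
      exact hRR.no_chief_three S hm hZ hg hE hmin
    · rw [QuotientGroup.ker_mk']
      exact Cfsg.Agent.S0205.result hodd
    · rw [QuotientGroup.ker_mk']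
      exact hodd
  have hsup := H127Sup.sup_eq_top_of hRR (hcl.quotient (Cfsg.pPrimeCore 2 X))
    (fun α _ hr hr2 hα => hRR.reeK.aut α hr hr2 hα) (fun α _ hr hr2 hα => hRR.reeL.aut α hr hr2 hα)
  obtain ⟨e⟩ := nonempty_mulEquiv_prod hRR.comm hRR.inf hsup
  have e₀ : X ≃* X ⧸ Cfsg.pPrimeCore 2 X :=
    MulEquiv.ofBijective (QuotientGroup.mk' (Cfsg.pPrimeCore 2 X))
      ⟨(MonoidHom.ker_eq_bot_iff _).mp hker, QuotientGroup.mk'_surjective _⟩
  obtain ⟨_, K₁, _, _, hK₁, ⟨eK⟩⟩ := hRR.reeK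
  obtain ⟨_, L₁, _, _, hL₁, ⟨eL⟩⟩ := hRR.reeL
  obtain ⟨eK'⟩ := Cfsg.Agent.H362.ReeField.twistedG2_congr (F := K₁) (K := F) (by rw [hK₁, hF]) (3 ^ m)
  obtain ⟨eL'⟩ := Cfsg.Agent.H362.ReeField.twistedG2_congr (F := L₁) (K := F) (by rw [hL₁, hF]) (3 ^ m)
  exact ⟨(e₀.trans e).trans (MulEquiv.prodCongr (eK.trans eK') (eL.trans eL'))⟩

end Cfsg.Agent.H389.RSq
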