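import Cfsg.Agent.H389.R.W5

/-!
# S3530: two components, one of them `PSL(2, 2^e)` (helper389)
-/

set_option autoImplicit false
set_option linter.unusedSectionVars false
set_option linter.unusedVariables false

namespace Cfsg.Agent.H389.RSq

open Subgroup
open Cfsg.Agent.H389.JSq (Has)

universe u

namespace Gam

/-- two even tori -/
theorem coprime_tori {e r : ℕ} (he : 1 ≤ e) (hr : r.Prime) (h1 : r ∣ 2 ^ e - 1) (h2 : r ∣ 2 ^ e + 1) : False := by
  have h3 : r ∣ 2 := by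
    have := (Nat.dvd_sub h2 h1)
    have h4 : 1 ≤ 2 ^ e := Nat.one_le_two_pow
    have h5 : 2 ^ e + 1 - (2 ^ e - 1) = 2 := by omega
    rwa [h5] at this
  have h4 := (Nat.prime_dvd_prime_iff_eq hr Nat.prime_two).mp h3
  subst h4
  have h5 : 2 ∣ 2 ^ e := dvd_pow_self 2 (by omega)
  omega

theorem three_dvd_plus {e : ℕ} (he : Odd e) : 3 ∣ 2 ^ e + 1 := by
  have := Odd.nat_add_dvd_pow_add_pow 2 1 he
  simpa using this

section
variable {m : ℕ} {σ : Fin 5 → ℕ} {X Y : Type u} [Group X] [Finite X] [Group Y] [Finite Y] {f : X →* Y}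
  {D P : Subgroup X} {E K L : Subgroup Y} {H : Set ℕ → Subgroup X}

theorem dvd_iff {e : ℕ} {L : Type u} [Group L] [Finite L] (hL : IsL2 2 e L) {r : ℕ} (hr : r.Prime) (hr2 : r ≠ 2) :
    r ∣ Nat.card L ↔ r ∣ 2 ^ e - 1 ∨ r ∣ 2 ^ e + 1 := by
  rw [hL.psl.card_even rfl, hr.dvd_mul, hr.dvd_mul]
  constructor
  · rintro ((h | h) | h)
    · exact absurd ((Nat.prime_dvd_prime_iff_eq hr Nat.prime_two).mp (hr.dvd_of_dvd_pow h)) hr2
    · exact Or.inl h
    · exact Or.inr h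
  · rintro (h | h)
    · exact Or.inl (Or.inr h)
    · exact Or.inr h

/-- a pair of classes in the same torus of `L` contains all the classes of `K` -/
theorem pair (h : M2 m σ f K L) {e : ℕ} (hL : IsL2 2 e L) {i j c : Fin 5} (hij : i ≠ j)
    (hd : (σ i ∣ 2 ^ e - 1 ∧ σ j ∣ 2 ^ e - 1) ∨ (σ i ∣ 2 ^ e + 1 ∧ σ j ∣ 2 ^ e + 1)) (hc : σ c ∣ Nat.card K) :
    c = i ∨ c = j := by
  by_contra hcon
  push Not at hcon
  exact h.symm.f1 (h.sig.tri hij hcon.1.symm hcon.2.symm)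
    (hL.psl.has_mul (h.sig.prime i) (h.sig.prime j) (h.sig.ne_two i) (h.sig.ne_two j) (h.sig.ne hij) hd) hc

/-- three classes of `L`: two of them in the same torus -/
theorem exists_pair' {e : ℕ} {L : Type u} [Group L] [Finite L] (S : Sig m σ) (hL : IsL2 2 e L) {a b c : Fin 5}
    (hab : a ≠ b) (hac : a ≠ c) (hbc : b ≠ c) (ha : σ a ∣ Nat.card L) (hb : σ b ∣ Nat.card L) (hc : σ c ∣ Nat.card L) :
    ∃ i j, i ≠ j ∧ ((σ i ∣ 2 ^ e - 1 ∧ σ j ∣ 2 ^ e - 1) ∨ (σ i ∣ 2 ^ e + 1 ∧ σ j ∣ 2 ^ e + 1)) := by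
  rw [dvd_iff hL (S.prime _) (S.ne_two _)] at ha hb hc
  rcases ha with ha | ha <;> rcases hb with hb | hb <;> rcases hc with hc | hc
  · exact ⟨a, b, hab, Or.inl ⟨ha, hb⟩⟩
  · exact ⟨a, b, hab, Or.inl ⟨ha, hb⟩⟩
  · exact ⟨a, c, hac, Or.inl ⟨ha, hc⟩⟩
  · exact ⟨b, c, hbc, Or.inr ⟨hb, hc⟩⟩
  · exact ⟨b, c, hbc, Or.inl ⟨hb, hc⟩⟩
  · exact ⟨a, c, hac, Or.inr ⟨ha, hc⟩⟩
  · exact ⟨a, b, hab, Or.inr ⟨ha, hb⟩⟩
  · exact ⟨a, b, hab, Or.inr ⟨ha, hb⟩⟩

/-- at most one class outside `|K|` and `|ker f|` -/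
theorem out (h : M2 m σ f K L) {i j : Fin 5} (hij : i ≠ j) (hi : ¬ σ i ∣ Nat.card K) (hj : ¬ σ j ∣ Nat.card K)
    (hi' : ¬ σ i ∣ Nat.card f.ker) (hj' : ¬ σ j ∣ Nat.card f.ker) : False := by
  apply hj'
  refine h.e1 hij ?_ ?_ hi'
  · intro hd; exact hi (Finset.mem_filter.mp hd).2
  · intro hd; exact hj (Finset.mem_filter.mp hd).2

/-- a class of the kernel outside given ones, or enough classes in `K` -/
theorem three_of (h : M2 m σ f K L) {a b : Fin 5} (hN : ∀ i, σ i ∣ Nat.card f.ker → i = a ∨ i = b) :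
    (∃ c d, c ≠ d ∧ c ≠ a ∧ c ≠ b ∧ d ≠ a ∧ d ≠ b ∧ σ c ∣ Nat.card K ∧ σ d ∣ Nat.card K) := by
  have key : ∀ c d : Fin 5, c ≠ d → c ≠ a → c ≠ b → d ≠ a → d ≠ b → σ c ∣ Nat.card K ∨ σ d ∣ Nat.card K := by
    intro c d hcd hca hcb hda hdb
    by_contra hcon
    push Not at hcon
    refine out h hcd hcon.1 hcon.2 (fun hd => ?_) (fun hd => ?_)
    · rcases hN _ hd with h1 | h1
      · exact hca h1
      · exact hcb h1
    · rcases hN _ hd with h1 | h1
      · exact hda h1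
      · exact hdb h1
  obtain ⟨x, y, z, hxy, hxz, hyz, hxa, hxb, hya, hyb, hza, hzb⟩ : ∃ x y z : Fin 5, x ≠ y ∧ x ≠ z ∧ y ≠ z ∧ x ≠ a ∧
      x ≠ b ∧ y ≠ a ∧ y ≠ b ∧ z ≠ a ∧ z ≠ b := by
    clear key hN; revert a b; decide
  rcases key x y hxy hxa hxb hya hyb with h1 | h1
  · rcases key y z hyz hya hyb hza hzb with h2 | h2
    · exact ⟨x, y, hxy, hxa, hxb, hya, hyb, h1, h2⟩
    · exact ⟨x, z, hxz, hxa, hxb, hza, hzb, h1, h2⟩
  · rcases key x z hxz hxa hxb hza hzb with h2 | h2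
    · exact ⟨x, y, hxy, hxa, hxb, hya, hyb, h2, h1⟩
    · exact ⟨y, z, hyz, hya, hyb, hza, hzb, h1, h2⟩

/-- two classes in `|K|`, one class in the kernel: three classes in `|K|` -/
theorem three_of' (h : M2 m σ f K L) {a : Fin 5} (hN : ∀ i, σ i ∣ Nat.card f.ker → i = a) :
    (∃ c d e, c ≠ d ∧ c ≠ e ∧ d ≠ e ∧ σ c ∣ Nat.card K ∧ σ d ∣ Nat.card K ∧ σ e ∣ Nat.card K) := by
  obtain ⟨c, d, hcd, hca, -, hda, -, hc, hd⟩ := three_of h (a := a) (b := a) (fun i hi => Or.inl (hN i hi))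
  obtain ⟨x, y, hxy, hxa, hxc, hxd, hya, hyc, hyd⟩ : ∃ x y : Fin 5, x ≠ y ∧ x ≠ a ∧ x ≠ c ∧ x ≠ d ∧ y ≠ a ∧
      y ≠ c ∧ y ≠ d := by
    clear hN hc hd; revert a c d; decide
  by_cases hx : σ x ∣ Nat.card K
  · exact ⟨c, d, x, hcd, hxc.symm, hxd.symm, hc, hd, hx⟩
  by_cases hy : σ y ∣ Nat.card K
  · exact ⟨c, d, y, hcd, hyc.symm, hyd.symm, hc, hd, hy⟩
  exact (out h hxy hx hy (fun hn => hxa (hN x hn)) (fun hn => hya (hN y hn))).elim

/-- **G1** -/
theorem g1 (h : M2 m σ f K L) {e : ℕ} (hL : IsL2 2 e L) (C : Cov f ⊤ (K ⊔ L) P H) {p : Fin 5}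
    (hp : σ p ∣ 2 ^ e - 1) (hpP : ¬ σ p ∣ Nat.card (P ⊓ f.ker : Subgroup X)) : False := by
  have S := h.sig
  have he : 1 ≤ e := hL.odd.pos
  have hp0 : p ≠ 0 := by
    rintro rfl
    refine coprime_tori he Nat.prime_three (S.zero ▸ hp) (three_dvd_plus hL.odd)
  have hpL : σ p ∣ Nat.card L := (dvd_iff hL (S.prime p) (S.ne_two p)).mpr (Or.inl hp)
  have h3K : σ 0 ∣ Nat.card K := S.zero ▸ h.isKK.three_dvd
  obtain ⟨x, hx, hxo, hfx, hfix⟩ := h.toM0.pivot C h.isKL.simple le_sup_right Nat.prime_two (S.prime p)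
    (S.ne_two p).symm (hL.psl.piv (S.prime p) (S.ne_two p) hp) hpP
  have hcop : (orderOf x).Coprime (Nat.card (P ⊓ f.ker : Subgroup X)) := by
    rw [hxo]; exact ((S.prime p).coprime_iff_not_dvd).mpr hpP
  have hKx : K ≤ (centralizer {x}).map f := by
    refine C.le_map_centralizer hx hcop le_sup_left ?_
    intro y hy
    rw [Cfsg.Agent.H381.Tools.mem_cent_iff]
    exact (mem_centralizer_iff.mp (h.comm hy) (f x) hfx)
  have hfix' : ∀ i, i ≠ p → σ i ∣ Nat.card f.ker → σ i ∣ Nat.card (centralizer {x} ⊓ f.ker : Subgroup X) := by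
    intro i hip hi
    refine hfix (σ i) (S.prime i) (S.ne hip) (S.ne_two i) ?_
    rwa [top_inf_eq]
  -- (i)
  have h1 : ∀ i j, σ i ∣ Nat.card f.ker → σ j ∣ Nat.card f.ker → i ≠ p → j ≠ p → i = j := by
    intro i j hi hj hip hjp
    by_contra hij
    refine h.toM0.tlem (S.tri hip.symm hjp.symm hij) hxo h.isKK hKx (hfix' i hip hi) (hfix' j hjp hj) h3K ?_
    by_cases hi0 : i = 0
    · left; rw [hi0]
    by_cases hj0 : j = 0
    · right; left; rw [hj0]
    · right; right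
      refine ⟨S.tri (Ne.symm hi0) (Ne.symm hj0) hij, ?_⟩
      rw [S.cls, S.cls]; exact hp0.symm
  by_cases hw : ∃ w, w ≠ p ∧ σ w ∣ Nat.card f.ker
  · obtain ⟨w, hwp, hw⟩ := hw
    have hN : ∀ i, σ i ∣ Nat.card f.ker → i = p ∨ i = w := by
      intro i hi
      by_cases hip : i = p
      · exact Or.inl hip
      · exact Or.inr (h1 i w hi hw hip hwp)
    obtain ⟨c, d, hcd, hcp, hcw, hdp, hdw, hc, hd⟩ := three_of h.symm hN
    obtain ⟨i, j, hij, hd'⟩ := exists_pair' S hL hcd hcp hdp hc hd hpL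
    have hpair := fun c hc => pair h hL hij hd' (c := c) hc
    obtain ⟨c', d', hcd', hcp', hcw', hdp', hdw', hc', hd''⟩ := three_of h hN
    -- `K` has the two classes `c'`, `d'`, one of them `0`
    have hK : ∀ i, σ i ∣ Nat.card K → i = c' ∨ i = d' := by
      intro a ha
      rcases hpair c' hc' with e1 | e1 <;> rcases hpair d' hd'' with e2 | e2 <;> rcases hpair a ha with e3 | e3
      · exact absurd (e1.trans e2.symm) hcd'
      · exact absurd (e1.trans e2.symm) hcd'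
      · left; rw [e3, e1]
      · right; rw [e3, e2]
      · right; rw [e3, e2]
      · left; rw [e3, e1]
      · exact absurd (e1.trans e2.symm) hcd'
      · exact absurd (e1.trans e2.symm) hcd'
    have hnker : ∀ i, σ i ∣ Nat.card K → ¬ σ i ∣ Nat.card f.ker := by
      intro i hi hn
      rcases hN i hn with rfl | rfl
      · rcases hK _ hi with rfl | rfl
        · exact hcp' rfl
        · exact hdp' rfl
      · rcases hK _ hi with rfl | rfl
        · exact hcw' rfl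
        · exact hdw' rfl
    have hK2 : ∀ i, σ i ∣ Nat.card K → i ≠ w := by
      rintro i hi rfl
      rcases hK _ hi with rfl | rfl
      · exact hcw' rfl
      · exact hdw' rfl
    have hK3 : ∀ i, σ i ∣ Nat.card K → i ≠ p := by
      rintro i hi rfl
      rcases hK _ hi with rfl | rfl
      · exact hcp' rfl
      · exact hdp' rfl
    have main : ∀ r : Fin 5, σ r ∣ Nat.card K → Piv K 2 (σ r) → False := by
      intro r hr hpiv
      refine h.toM0.pivot_cent (S.tri (hK3 r hr).symm hwp.symm (hK2 r hr)) hxo h.isKK.simple hKx Nat.prime_two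
        (S.ne_two r).symm (S.ne_two w).symm hpiv (hfix' w hwp hw) ?_
      intro hcon
      exact hnker r hr (hcon.trans (card_dvd_of_le inf_le_right))
    by_cases h2K : ∃ e', IsL2 2 e' K
    · obtain ⟨e', he'⟩ := h2K
      obtain ⟨i, hi⟩ := h.minusK e' he'
      exact main i ((dvd_iff he' (S.prime i) (S.ne_two i)).mpr (Or.inl hi))
        (he'.psl.piv (S.prime i) (S.ne_two i) hi)
    · push Not at h2K
      refine main 0 h3K ?_
      rw [S.zero]
      exact h.isKK.piv_three h2K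
  · push Not at hw
    have hN : ∀ i, σ i ∣ Nat.card f.ker → i = p ∨ i = p := by
      intro i hi
      by_contra hip
      exact hw i (fun e => hip (Or.inl e)) hi
    obtain ⟨c, d, hcd, hcp, -, hdp, -, hc, hd⟩ := three_of h.symm hN
    obtain ⟨i, j, hij, hd'⟩ := exists_pair' S hL hcd hcp hdp hc hd hpL
    have hpair := fun c hc => pair h hL hij hd' (c := c) hc
    -- three classes in `K`
    obtain ⟨x, y, z, hxy, hxz, hyz, hx, hy, hz⟩ : ∃ x y z : Fin 5, x ≠ y ∧ x ≠ z ∧ y ≠ z ∧ σ x ∣ Nat.card K ∧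
        σ y ∣ Nat.card K ∧ σ z ∣ Nat.card K :=
      three_of' h (fun i hi => (hN i hi).elim id id)
    rcases hpair x hx with e1 | e1 <;> rcases hpair y hy with e2 | e2 <;> rcases hpair z hz with e3 | e3 <;>
      first
        | exact hxy (e1.trans e2.symm)
        | exact hxz (e1.trans e3.symm)
        | exact hyz (e2.trans e3.symm)

/-- three classes of `K` and a pair in a torus of `L` -/
theorem no_three_pair (h : M2 m σ f K L) {e : ℕ} (hL : IsL2 2 e L) {a b c : Fin 5} (hab : a ≠ b) (hac : a ≠ c)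
    (hbc : b ≠ c) (ha : σ a ∣ Nat.card L) (hb : σ b ∣ Nat.card L) (hc : σ c ∣ Nat.card L) {x y z : Fin 5}
    (hxy : x ≠ y) (hxz : x ≠ z) (hyz : y ≠ z) (hx : σ x ∣ Nat.card K) (hy : σ y ∣ Nat.card K)
    (hz : σ z ∣ Nat.card K) : False := by
  obtain ⟨i, j, hij, hd⟩ := exists_pair' h.sig hL hab hac hbc ha hb hc
  rcases pair h hL hij hd hx with e1 | e1 <;> rcases pair h hL hij hd hy with e2 | e2 <;>
    rcases pair h hL hij hd hz with e3 | e3 <;>
    first
      | exact hxy (e1.trans e2.symm)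
      | exact hxz (e1.trans e3.symm)
      | exact hyz (e2.trans e3.symm)

end
end Gam

section
variable {m : ℕ} {σ : Fin 5 → ℕ} {X Y : Type u} [Group X] [Finite X] [Group Y] [Finite Y] {f : X →* Y}
  {K L : Subgroup Y}
open Gam

theorem M2.gamma (h : M2 m σ f K L) (hrK : ¬ IsRee m K) {e : ℕ} (hL : IsL2 2 e L) : False := by
  have S := h.sig
  have he : 1 ≤ e := hL.odd.pos
  have hE : K ⊔ L ≤ (⊤ : Subgroup X).map f := by rw [h.toM0.top_map]; exact le_top
  obtain ⟨P, H, C⟩ := h.toM0.exists_cov hE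
  have C' : Cov f ⊤ (L ⊔ K) P H := by rw [sup_comm]; exact C
  have h3K : σ 0 ∣ Nat.card K := S.zero ▸ h.isKK.three_dvd
  have h3L : σ 0 ∣ Nat.card L := S.zero ▸ h.isKL.three_dvd
  have hZN : ∀ i, σ i ∣ Nat.card (P ⊓ f.ker : Subgroup X) → σ i ∣ Nat.card f.ker := fun i hi =>
    hi.trans (card_dvd_of_le inf_le_right)
  have hG1 : ∀ i, σ i ∣ 2 ^ e - 1 → σ i ∣ Nat.card (P ⊓ f.ker : Subgroup X) := by
    intro i hi
    by_contra hcon
    exact g1 h hL C hi hcon
  have h0m : ∀ i e', IsL2 2 e' K ∨ IsL2 2 e' L → σ i ∣ 2 ^ e' - 1 → i ≠ 0 := by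
    rintro i e' h' hi rfl
    have h1 : Odd e' := by rcases h' with h' | h' <;> exact h'.odd
    exact coprime_tori h1.pos Nat.prime_three (S.zero ▸ hi) (three_dvd_plus h1)
  obtain ⟨p, hp⟩ := h.minusL e hL
  have hp0 : p ≠ 0 := h0m p e (Or.inr hL) hp
  have hpL : σ p ∣ Nat.card L := (dvd_iff hL (S.prime p) (S.ne_two p)).mpr (Or.inl hp)
  have hpP := hG1 p hp
  have hperf := h.perfect
  have hmult : ∀ ℓ : ℕ, ℓ.Prime → ℓ ≠ 2 → NoMult ℓ (K ⊔ L : Subgroup Y) := fun ℓ hℓ hℓ2 => h.noMult hℓ hℓ2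
  by_cases h2K : ∃ e', IsL2 2 e' K
  · obtain ⟨e', hK⟩ := h2K
    have hG1' : ∀ i, σ i ∣ 2 ^ e' - 1 → σ i ∣ Nat.card (P ⊓ f.ker : Subgroup X) := by
      intro i hi
      by_contra hcon
      exact g1 h.symm hK C' hi hcon
    have hne : ∀ i j, σ i ∣ 2 ^ e - 1 → σ j ∣ 2 ^ e' - 1 → i = j := by
      intro i j hi hj
      by_contra hij
      have hN : ∀ w, σ w ∣ Nat.card f.ker → w = i ∨ w = j := by
        intro w hw
        by_contra hcon
        push Not at hcon
        exact h.toM0.no_two C hperf hmult (S.tri hij hcon.1.symm hcon.2.symm) (hG1 i hi) (hG1' j hj)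
          (by rwa [top_inf_eq])
      obtain ⟨c, d, hcd, hci, hcj, hdi, hdj, hc, hd⟩ := three_of h hN
      obtain ⟨c', d', hcd', hci', hcj', hdi', hdj', hc', hd'⟩ := three_of h.symm hN
      exact no_three_pair h hL hcd' hci' hdi' hc' hd'
        ((dvd_iff hL (S.prime i) (S.ne_two i)).mpr (Or.inl hi)) hcd hcj hdj hc hd
        ((dvd_iff hK (S.prime j) (S.ne_two j)).mpr (Or.inl hj))
    obtain ⟨p', hp'⟩ := h.minusK e' hK
    have hpp : p = p' := hne p p' hp hp'
    subst hpp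
    -- the classes of `K` are `0` and `p`
    have hKc : ∀ i, σ i ∣ Nat.card K → i = 0 ∨ i = p := by
      intro i hi
      rcases (dvd_iff hK (S.prime i) (S.ne_two i)).mp hi with h1 | h1
      · exact Or.inr (hne p i hp h1).symm
      · by_contra hcon
        push Not at hcon
        have := pair h.symm hK (i := 0) (j := i) (Ne.symm hcon.1)
          (Or.inr ⟨S.zero ▸ three_dvd_plus hK.odd, h1⟩) hpL
        rcases this with h2 | h2
        · exact hp0 h2
        · exact hcon.2 h2.symm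
    have hLc : ∀ i, σ i ∣ Nat.card L → i = 0 ∨ i = p := by
      intro i hi
      rcases (dvd_iff hL (S.prime i) (S.ne_two i)).mp hi with h1 | h1
      · exact Or.inr (hne i p h1 hp')
      · by_contra hcon
        push Not at hcon
        have := pair h hL (i := 0) (j := i) (Ne.symm hcon.1)
          (Or.inr ⟨S.zero ▸ three_dvd_plus hL.odd, h1⟩)
          ((dvd_iff hK (S.prime p) (S.ne_two p)).mpr (Or.inl hp'))
        rcases this with h2 | h2
        · exact hp0 h2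
        · exact hcon.2 h2.symm
    have hsub : Lam σ K ∪ Lam σ L ⊆ {0, p} := by
      intro i hi
      rw [Finset.mem_insert, Finset.mem_singleton]
      rcases Finset.mem_union.mp hi with h1 | h1
      · exact hKc i (Finset.mem_filter.mp h1).2
      · exact hLc i (Finset.mem_filter.mp h1).2
    have h1 := (Finset.card_le_card hsub).trans (Finset.card_le_two)
    have h2 := h.lam
    omega
  · push Not at h2K
    have hN : ∀ w, σ w ∣ Nat.card f.ker → w = 0 ∨ w = p := by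
      intro w hw
      by_contra hcon
      push Not at hcon
      by_cases h3P : σ 0 ∣ Nat.card (P ⊓ f.ker : Subgroup X)
      · exact h.toM0.no_two C hperf hmult (S.tri hp0.symm hcon.1.symm hcon.2.symm) h3P hpP
          (by rwa [top_inf_eq])
      · obtain ⟨z, hz, hzo, hfz, hfix⟩ := h.toM0.pivot C h.isKK.simple le_sup_left Nat.prime_two (S.prime 0)
          (S.ne_two 0).symm (S.zero ▸ h.isKK.piv_three h2K) h3P
        have hcop : (orderOf z).Coprime (Nat.card (P ⊓ f.ker : Subgroup X)) := by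
          rw [hzo]; exact ((S.prime 0).coprime_iff_not_dvd).mpr h3P
        have hLz := h.le_map C hz hfz hcop
        refine h.toM0.tlem (S.tri (i := 0) (j := w) (l := p) (Ne.symm hcon.1) hp0.symm hcon.2) hzo h.isKL hLz
          (hfix (σ w) (S.prime w) (S.ne hcon.1) (S.ne_two w) (by rwa [top_inf_eq]))
          (hfix (σ p) (S.prime p) (S.ne hp0) (S.ne_two p) (by rw [top_inf_eq]; exact hZN p hpP)) hpL
          (Or.inr (Or.inl rfl))
    obtain ⟨c, d, hcd, hc0, hcp, hd0, hdp, hc, hd⟩ := three_of h hN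
    obtain ⟨c', d', hcd', hc0', hcp', hd0', hdp', hc', hd'⟩ := three_of h.symm hN
    exact no_three_pair h hL hcd' hc0' hd0' hc' hd' h3L hcd hc0 hd0 hc hd h3K

end

end Cfsg.Agent.H389.RSq
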