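import Cfsg.Agent.H389.R.W4
import Cfsg.Agent.H188.S3530.RedCore

/-!
# S3530: reduction to one or two components (helper188, helper389)
-/

set_option autoImplicit false

namespace Cfsg.Agent.H389.RSq

open Subgroup

universe u

theorem Min.red' {m : ℕ} {X : Type u} [Group X] [Finite X] {σ : Fin 5 → ℕ} (h : Min m σ X) :
    (∃ K, M1 m σ (QuotientGroup.mk' (Cfsg.pPrimeCore 2 X)) K) ∨
      ∃ K L, M2 m σ (QuotientGroup.mk' (Cfsg.pPrimeCore 2 X)) K L := by
  have hsurj := QuotientGroup.mk'_surjective (Cfsg.pPrimeCore 2 X)
  refine Cfsg.Agent.H188.Red.red h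
    { isK := fun K hK => h.cl.isK_component hK
      simple := fun L _ _ hL => hL.simple
      three := fun L _ _ hL => hL.three_dvd
      solv := fun L _ _ hL T hT hT1 => hL.isSolvable_normalizer Nat.prime_three (by norm_num) hT hT1
      index := h.core.2.1
      cent := h.core.2.2
      sylow3 := fun E _ hE T => h.sylow_three_normal hsurj hE T
      two := fun h0 E _ hE T hT t ht => h0.not_two_classes hE T hT t ht
      minus := fun K _ e hK => h.exists_minus hsurj hK }

end Cfsg.Agent.H389.RSq
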