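import Cfsg.Agent.H389.R.Def
import Cfsg.Agent.H389.Small
import Cfsg.Agent.H381.Crit
import Cfsg.Agent.H395.Coclique
import Cfsg.Agent.S0126

/-!
# S3530: tools (helper389)
-/

set_option autoImplicit false
set_option linter.unusedSectionVars false

namespace Cfsg.Agent.H389.RSq

open Subgroup
open scoped commutatorElement
open Cfsg.Agent.H389.JSq (Has)
open Cfsg.Agent.H381.Tools
open Cfsg.Agent.H381.Lucido (Edge lucido)
open Cfsg.Agent.OddOrderLocal.HallPi

universe u v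

section cl

variable {m : ℕ} {X : Type u} [Group X]

theorem Cl.of_injective {Y : Type v} [Group Y] (h : Cl m X) (φ : Y →* X) (hφ : Function.Injective φ) :
    Cl m Y := by
  have key : ∀ g : Y, orderOf (φ g) = orderOf g := fun g => orderOf_injective φ hφ g
  refine ⟨fun g => ?_, fun g => ?_, fun g => ?_, fun g => ?_, fun g => ?_, fun g => ?_⟩
  all_goals rw [← key g]
  exacts [h.prm _, h.four _, h.nine _, h.tri _, h.two _, h.eighteen _]

theorem Cl.subgroup (h : Cl m X) (H : Subgroup X) : Cl m H :=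
  h.of_injective H.subtype H.subtype_injective

theorem Cl.of_surjective [Finite X] {Y : Type v} [Group Y] (h : Cl m X) (φ : X →* Y)
    (hφ : Function.Surjective φ) : Cl m Y := by
  have key : ∀ g : Y, ∃ x : X, orderOf x = orderOf g := fun g => by
    have : Has Y (orderOf g) := ⟨g, rfl⟩
    exact this.of_surjective φ hφ
  refine ⟨fun g => ?_, fun g => ?_, fun g => ?_, fun g => ?_, fun g => ?_, fun g => ?_⟩
  all_goals
    obtain ⟨x, hx⟩ := key g
    rw [← hx]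
  exacts [h.prm _, h.four _, h.nine _, h.tri _, h.two _, h.eighteen _]

theorem Cl.quotient [Finite X] (h : Cl m X) (N : Subgroup X) [N.Normal] : Cl m (X ⧸ N) :=
  h.of_surjective (QuotientGroup.mk' N) (QuotientGroup.mk'_surjective N)

theorem K5.of_surjective [Finite X] {σ : Fin 5 → ℕ} {Y : Type v} [Group Y] (h : K5 σ Y) (φ : X →* Y)
    (hφ : Function.Surjective φ) : K5 σ X := fun i j hij => (h i j hij).of_surjective φ hφ

theorem K5.of_subgroup {σ : Fin 5 → ℕ} {H : Subgroup X} (h : K5 σ H) : K5 σ X :=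
  fun i j hij => (h i j hij).of_subgroup

/-- primes of different classes are different -/
theorem ne_of_cls {p q : ℕ} (h : cls m p ≠ cls m q) : p ≠ q := fun e => h (by rw [e])

/-- `p, q, r` are odd primes of three different classes -/
structure Tri (m : ℕ) (p q r : ℕ) : Prop where
  hp : p.Prime
  hq : q.Prime
  hr : r.Prime
  p2 : p ≠ 2
  q2 : q ≠ 2
  r2 : r ≠ 2
  pq : cls m p ≠ cls m q
  pr : cls m p ≠ cls m r
  qr : cls m q ≠ cls m r

namespace Tri

variable {p q r : ℕ}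

theorem swap (h : Tri m p q r) : Tri m q p r :=
  ⟨h.hq, h.hp, h.hr, h.q2, h.p2, h.r2, h.pq.symm, h.qr, h.pr⟩

theorem rot (h : Tri m p q r) : Tri m q r p :=
  ⟨h.hq, h.hr, h.hp, h.q2, h.r2, h.p2, h.qr, h.pq.symm, h.pr.symm⟩

theorem npq (h : Tri m p q r) : p ≠ q := ne_of_cls h.pq
theorem npr (h : Tri m p q r) : p ≠ r := ne_of_cls h.pr
theorem nqr (h : Tri m p q r) : q ≠ r := ne_of_cls h.qr

end Tri

theorem Sig.tri {σ : Fin 5 → ℕ} (S : Sig m σ) {i j l : Fin 5} (hij : i ≠ j) (hil : i ≠ l) (hjl : j ≠ l) :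
    Tri m (σ i) (σ j) (σ l) :=
  ⟨S.prime i, S.prime j, S.prime l, S.ne_two i, S.ne_two j, S.ne_two l, by rw [S.cls, S.cls]; exact hij,
    by rw [S.cls, S.cls]; exact hil, by rw [S.cls, S.cls]; exact hjl⟩

theorem Sig.inj {σ : Fin 5 → ℕ} (S : Sig m σ) {i j : Fin 5} (h : σ i = σ j) : i = j := by
  rw [← S.cls i, ← S.cls j, h]

theorem Sig.ne {σ : Fin 5 → ℕ} (S : Sig m σ) {i j : Fin 5} (h : i ≠ j) : σ i ≠ σ j := fun e => h (S.inj e)

theorem Sig.coprime {σ : Fin 5 → ℕ} (S : Sig m σ) {i j : Fin 5} (h : i ≠ j) : (σ i).Coprime (σ j) :=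
  (Nat.coprime_primes (S.prime i) (S.prime j)).mpr (S.ne h)

theorem cls_zero {p : ℕ} (h : cls m p = 0) : p = 3 := by
  by_contra h3
  simp only [cls, h3, if_false] at h
  split_ifs at h <;> exact absurd h (by decide)

theorem cls_three : cls m 3 = 0 := by simp [cls]

theorem Cl.no_has (h : Cl m X) {p q r : ℕ} (T : Tri m p q r) {g : X} (hp : p ∣ orderOf g)
    (hq : q ∣ orderOf g) (hr : r ∣ orderOf g) : False :=
  h.tri g p q r T.hp T.hq T.hr T.p2 T.q2 T.r2 T.pq T.pr T.qr hp hq hr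

/-- **no three commuting elements of prime orders in three classes** -/
theorem Cl.no_comm (h : Cl m X) {p q r : ℕ} (T : Tri m p q r) {x y z : X} (hx : orderOf x = p)
    (hy : orderOf y = q) (hz : orderOf z = r) (hxy : Commute x y) (hxz : Commute x z)
    (hyz : Commute y z) : False := by
  have h1 := orderOf_mul3 hxy hxz hyz hx hy hz ((Nat.coprime_primes T.hp T.hq).mpr T.npq)
    ((Nat.coprime_primes T.hp T.hr).mpr T.npr) ((Nat.coprime_primes T.hq T.hr).mpr T.nqr)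
  exact h.no_has T (g := x * y * z) (by rw [h1]; exact Dvd.intro _ (by ring : p * (q * r) = _))
    (by rw [h1]; exact Dvd.intro _ (by ring : q * (p * r) = _)) (by rw [h1]; exact Dvd.intro_left _ rfl)

theorem has_pair {p q : ℕ} (hp : p.Prime) (hq : q.Prime) (h : Has X (p * q)) :
    ∃ x y : X, Commute x y ∧ orderOf x = p ∧ orderOf y = q := by
  obtain ⟨g, hg⟩ := h
  exact exists_pair hp.ne_zero hq.ne_zero hg

/-- an element centralising a subgroup with an element of order `q * r` -/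
theorem Cl.no_cent (h : Cl m X) {p q r : ℕ} (T : Tri m p q r) {x : X} (hx : orderOf x = p)
    {D : Subgroup X} (hD : D ≤ centralizer {x}) (hqr : Has D (q * r)) : False := by
  obtain ⟨⟨y, hy⟩, ⟨z, hz⟩, hyz, hyo, hzo⟩ := has_pair T.hq T.hr hqr
  rw [← Subgroup.orderOf_coe] at hyo hzo
  exact h.no_comm T hx hyo hzo (mem_cent_iff.mp (hD hy)) (mem_cent_iff.mp (hD hz))
    (congrArg Subtype.val hyz)

end cl

section fin

variable {m : ℕ} {X : Type u} [Group X] [Finite X]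

theorem has_of_edge {M : Subgroup X} {a b : ℕ} (ha : a.Prime) (hb : b.Prime) (hab : a ≠ b)
    (h : Edge M a b) : Has M (a * b) := by
  obtain ⟨x, hx, y, hy, hxy, hxa, hyb⟩ := h
  refine Has.of_commute (x := (⟨x, hx⟩ : M)) (y := ⟨y, hy⟩) (Subtype.ext hxy) ?_ ?_
    ((Nat.coprime_primes ha hb).mpr hab)
  · rw [← Subgroup.orderOf_coe]; exact hxa
  · rw [← Subgroup.orderOf_coe]; exact hyb

/-- three classes in a solvable subgroup: two of them are joined -/
theorem lucido3 {M : Subgroup X} (hM : Group.IsSolvable M) {a b c : ℕ} (T : Tri m a b c)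
    (ha : a ∣ Nat.card M) (hb : b ∣ Nat.card M) (hc : c ∣ Nat.card M) :
    Has M (a * b) ∨ Has M (a * c) ∨ Has M (b * c) := by
  rcases lucido hM T.hp T.hq T.hr T.npq T.npr T.nqr ha hb hc with h | h | h
  · exact Or.inl (has_of_edge T.hp T.hq T.npq h)
  · exact Or.inr (Or.inl (has_of_edge T.hp T.hr T.npr h))
  · exact Or.inr (Or.inr (has_of_edge T.hq T.hr T.nqr h))

/-- an element centralising a solvable subgroup whose order is divisible by three other classes -/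
theorem Cl.no_cent_solvable (h : Cl m X) {p a b c : ℕ} (T : Tri m a b c) (hp : p.Prime) (hp2 : p ≠ 2)
    (pa : cls m p ≠ cls m a) (pb : cls m p ≠ cls m b) (pc : cls m p ≠ cls m c) {x : X}
    (hx : orderOf x = p) {M : Subgroup X} (hM : M ≤ centralizer {x}) (hs : Group.IsSolvable M)
    (ha : a ∣ Nat.card M) (hb : b ∣ Nat.card M) (hc : c ∣ Nat.card M) : False := by
  rcases lucido3 hs T ha hb hc with h1 | h1 | h1
  · exact h.no_cent ⟨hp, T.hp, T.hq, hp2, T.p2, T.q2, pa, pb, T.pq⟩ hx hM h1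
  · exact h.no_cent ⟨hp, T.hp, T.hr, hp2, T.p2, T.r2, pa, pc, T.pr⟩ hx hM h1
  · exact h.no_cent ⟨hp, T.hq, T.hr, hp2, T.q2, T.r2, pb, pc, T.qr⟩ hx hM h1

/-- two classes in a solvable normal subgroup, a third one in the group: two of them are joined -/
theorem coclique3 {D N : Subgroup X} (hN : Group.IsSolvable N) (hND : N ≤ D)
    (hDN : D ≤ normalizer (N : Set X)) {a b c : ℕ} (T : Tri m a b c)
    (ha : a ∣ Nat.card N) (hb : b ∣ Nat.card N) (hc : c ∣ Nat.card D) :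
    Has D (a * b) ∨ Has D (a * c) ∨ Has D (b * c) := by
  by_contra hcon
  push Not at hcon
  have hn : (N.subgroupOf D).Normal := by
    rw [normal_subgroupOf_iff_le_normalizer hND]; exact hDN
  have hs : Group.IsSolvable (N.subgroupOf D) :=
    Group.isSolvable_of_isSolvable_injective (f := (subgroupOfEquivOfLe hND).toMonoidHom)
      (subgroupOfEquivOfLe hND).injective
  have hcard : Nat.card (N.subgroupOf D) = Nat.card N := Nat.card_congr (subgroupOfEquivOfLe hND).toEquiv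
  exact H395.Coclique.coclique T.hp T.hq T.hr T.npq T.npr T.nqr hcon.1 hcon.2.1 hcon.2.2 (N.subgroupOf D) hs
    (hcard ▸ ha) (hcard ▸ hb) hc

theorem Cl.no_cent_coclique (h : Cl m X) {p a b c : ℕ} (T : Tri m a b c) (hp : p.Prime) (hp2 : p ≠ 2)
    (pa : cls m p ≠ cls m a) (pb : cls m p ≠ cls m b) (pc : cls m p ≠ cls m c) {x : X}
    (hx : orderOf x = p) {D N : Subgroup X} (hD : D ≤ centralizer {x}) (hN : Group.IsSolvable N)
    (hND : N ≤ D) (hDN : D ≤ normalizer (N : Set X))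
    (ha : a ∣ Nat.card N) (hb : b ∣ Nat.card N) (hc : c ∣ Nat.card D) : False := by
  rcases coclique3 hN hND hDN T ha hb hc with h1 | h1 | h1
  · exact h.no_cent ⟨hp, T.hp, T.hq, hp2, T.p2, T.q2, pa, pb, T.pq⟩ hx hD h1
  · exact h.no_cent ⟨hp, T.hp, T.hr, hp2, T.p2, T.r2, pa, pc, T.pr⟩ hx hD h1
  · exact h.no_cent ⟨hp, T.hq, T.hr, hp2, T.q2, T.r2, pb, pc, T.qr⟩ hx hD h1

/-- **Solv4**: a solvable group does not join four classes pairwise -/
theorem Cl.solv4 (h : Cl m X) {σ : Fin 5 → ℕ} (S : Sig m σ) (hs : Group.IsSolvable X)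
    {t : Fin 5} (hK : ∀ i j, i ≠ t → j ≠ t → i ≠ j → Has X (σ i * σ j)) : False := by
  obtain ⟨a, b, c, d, hab, hac, had, hbc, hbd, hcd, ha, hb, hc, hd⟩ : ∃ a b c d : Fin 5, a ≠ b ∧ a ≠ c ∧
      a ≠ d ∧ b ≠ c ∧ b ≠ d ∧ c ≠ d ∧ a ≠ t ∧ b ≠ t ∧ c ≠ t ∧ d ≠ t := by
    clear hK; revert t; decide
  have hmem : ∀ p ∈ ({σ a, σ b, σ c, σ d} : Set ℕ), ∃ i, i ≠ t ∧ p = σ i := by
    intro p hp
    simp only [Set.mem_insert_iff, Set.mem_singleton_iff] at hp
    rcases hp with rfl | rfl | rfl | rfl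
    exacts [⟨a, ha, rfl⟩, ⟨b, hb, rfl⟩, ⟨c, hc, rfl⟩, ⟨d, hd, rfl⟩]
  refine H381.Criterion.not_solvable (p := σ a) (q := σ b) (r := σ c) (s := σ d) (S.prime a) (S.prime b)
    (S.prime c) (S.prime d) (S.ne hab) (S.ne hac) (S.ne had) (S.ne hbc) (S.ne hbd) (S.ne hcd) ?_ ?_ ?_ hs
  · intro x hx y hy hxy
    obtain ⟨i, hi, rfl⟩ := hmem x hx
    obtain ⟨j, hj, rfl⟩ := hmem y hy
    exact hK i j hi hj (fun e => hxy (by rw [e]))
  · intro x hx y hy z hz hxy hyz hxz g hg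
    obtain ⟨i, hi, rfl⟩ := hmem x hx
    obtain ⟨j, hj, rfl⟩ := hmem y hy
    obtain ⟨l, hl, rfl⟩ := hmem z hz
    refine h.no_has (S.tri (i := i) (j := j) (l := l) (fun e => hxy (by rw [e])) (fun e => hxz (by rw [e]))
      (fun e => hyz (by rw [e]))) (g := g) ?_ ?_ ?_
    · rw [hg, mul_assoc]; exact Dvd.intro _ rfl
    · rw [hg, mul_comm (σ i), mul_assoc]; exact Dvd.intro _ rfl
    · rw [hg]; exact Dvd.intro_left _ rfl
  · intro h2
    obtain ⟨i, -, hi⟩ := hmem 2 h2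
    exact (S.ne_two i hi.symm).elim

/-- a noncyclic `ℓ`-group, `ℓ` odd, has two independent commuting elements of order `ℓ` -/
theorem exists_pair_of_noncyclic {ℓ : ℕ} (hℓ : ℓ.Prime) (hℓ2 : ℓ ≠ 2) {J : Subgroup X}
    (hJ : IsPGroup ℓ J) (hc : ¬ IsCyclic J) :
    ∃ a ∈ J, ∃ b ∈ J, orderOf a = ℓ ∧ orderOf b = ℓ ∧ Commute a b ∧ b ∉ zpowers a := by
  have : Fact ℓ.Prime := ⟨hℓ⟩
  obtain ⟨A, -, hA, hcard⟩ := Cfsg.Agent.S0126.result hℓ2 hJ hc
  have hcomm := hA.1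
  have hexp := hA.2
  have h1 : ∀ a : A, orderOf a = 1 ∨ orderOf a = ℓ := fun a =>
    (Nat.dvd_prime hℓ).mp (orderOf_dvd_of_pow_eq_one (Subtype.ext (hexp a a.2)))
  obtain ⟨a, ha⟩ : ∃ a : A, a ≠ 1 := by
    have : 1 < Nat.card A := by rw [hcard]; exact Nat.one_lt_pow (by norm_num) hℓ.one_lt
    have := Finite.one_lt_card_iff_nontrivial.mp this
    exact exists_ne 1
  have hao : orderOf a = ℓ := (h1 a).resolve_left (fun e => ha (orderOf_eq_one_iff.mp e))
  obtain ⟨b, hb⟩ : ∃ b : A, b ∉ zpowers a := by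
    by_contra hcon
    push Not at hcon
    have h2 : (zpowers a) = ⊤ := (eq_top_iff' _).mpr hcon
    have h3 : Nat.card (zpowers a) = ℓ := by rw [Nat.card_zpowers, hao]
    rw [h2, card_top, hcard] at h3
    have : ℓ < ℓ ^ 2 := by nlinarith [hℓ.one_lt]
    omega
  have hbo : orderOf b = ℓ := (h1 b).resolve_left (fun e => hb (by
    rw [orderOf_eq_one_iff.mp e]; exact one_mem _))
  refine ⟨((a : J) : X), (a : J).2, ((b : J) : X), (b : J).2, ?_, ?_, ?_, ?_⟩
  · rw [Subgroup.orderOf_coe, Subgroup.orderOf_coe, hao]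
  · rw [Subgroup.orderOf_coe, Subgroup.orderOf_coe, hbo]
  · have := hcomm.is_comm.comm a b
    exact congrArg (fun z : A => ((z : J) : X)) this
  · intro hcon
    obtain ⟨n, hn⟩ := mem_zpowers_iff.mp hcon
    apply hb
    refine mem_zpowers_iff.mpr ⟨n, ?_⟩
    apply Subtype.ext
    apply Subtype.ext
    exact hn

/-- a noncyclic `ℓ`-group acting on `Q ≠ 1` of order prime to `ℓ` -/
theorem fixed_of_noncyclic {ℓ : ℕ} (hℓ : ℓ.Prime) (hℓ2 : ℓ ≠ 2) {J : Subgroup X}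
    (hJ : IsPGroup ℓ J) (hc : ¬ IsCyclic J) {Q : Subgroup X} (hQ : Q ≠ ⊥) (hQℓ : ¬ ℓ ∣ Nat.card Q)
    (hJQ : J ≤ normalizer (Q : Set X)) : ∃ e ∈ J, orderOf e = ℓ ∧ Q ⊓ centralizer {e} ≠ ⊥ := by
  obtain ⟨a, ha, b, hb, hao, hbo, hab, hne⟩ := exists_pair_of_noncyclic hℓ hℓ2 hJ hc
  obtain ⟨e, he, heo, hf⟩ := exists_fixed hℓ hao hbo hab hne Q hQℓ hQ (hJQ ha) (hJQ hb)
  exact ⟨e, (sup_le (zpowers_le.mpr ha) (zpowers_le.mpr hb)) he, heo, hf⟩

/-- a subgroup commuting with `e` normalises the fixed points -/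
theorem le_normalizer_fix {J Q : Subgroup X} {e : X} (hJQ : J ≤ normalizer (Q : Set X))
    (hJe : J ≤ centralizer {e}) : J ≤ normalizer ((Q ⊓ centralizer {e} : Subgroup X) : Set X) := by
  intro d hd
  apply mem_normalizer_inf (hJQ hd)
  apply le_normalizer (hJe hd)

/-- **JJ**: two commuting noncyclic groups of different classes acting on a group of a third class -/
theorem Cl.jj (h : Cl m X) {a b w : ℕ} (T : Tri m a b w) {A B Q : Subgroup X} (hA : IsPGroup a A)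
    (hB : IsPGroup b B) (hQ : IsPGroup w Q) (hAc : ¬ IsCyclic A) (hBc : ¬ IsCyclic B) (hQ1 : Q ≠ ⊥)
    (hAQ : A ≤ normalizer (Q : Set X)) (hBQ : B ≤ normalizer (Q : Set X))
    (hAB : A ≤ centralizer (B : Set X)) : False := by
  obtain ⟨e, he, heo, hf⟩ := fixed_of_noncyclic T.hp T.p2 hA hAc hQ1 (not_dvd_card T.hr T.hp T.npr hQ) hAQ
  have hBe : B ≤ centralizer {e} := by
    intro x hx
    rw [mem_cent_iff]
    exact (mem_centralizer_iff.mp (hAB he) x hx).symm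
  obtain ⟨e', he', heo', hf'⟩ := fixed_of_noncyclic T.hq T.q2 hB hBc hf
    (not_dvd_card T.hr T.hq T.nqr (hQ.to_le inf_le_left)) (le_normalizer_fix hBQ hBe)
  obtain ⟨x, hx, hxo⟩ := exists_mem_of_ne_bot T.hr ((hQ.to_le inf_le_left).to_le inf_le_left) hf'
  rw [mem_fix, mem_fix] at hx
  exact h.no_comm T heo heo' hxo (mem_cent_iff.mp (hBe he')) hx.1.2 hx.2

/-- a perfect group acts trivially on a cyclic group -/
theorem le_centralizer_of_cyclic {P J : Subgroup X} (hP : ⁅P, P⁆ = P) (hJ : IsCyclic J)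
    (hPJ : P ≤ normalizer (J : Set X)) : P ≤ centralizer (J : Set X) := by
  obtain ⟨⟨g, hg⟩, hgen⟩ := hJ.exists_generator
  have hgen' : ∀ x ∈ J, ∃ n : ℤ, g ^ n = x := by
    intro x hx
    obtain ⟨n, hn⟩ := mem_zpowers_iff.mp (hgen ⟨x, hx⟩)
    exact ⟨n, congrArg Subtype.val hn⟩
  have hact : ∀ x ∈ P, ∃ n : ℤ, x * g * x⁻¹ = g ^ n := by
    intro x hx
    obtain ⟨n, hn⟩ := hgen' (x * g * x⁻¹) ((mem_normalizer_iff.mp (hPJ hx) g).mp hg)
    exact ⟨n, hn.symm⟩
  have hpow : ∀ x : X, ∀ n : ℤ, x * g * x⁻¹ = g ^ n → ∀ k : ℤ, x * g ^ k * x⁻¹ = g ^ (n * k) := by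
    intro x n hn k
    rw [← conj_zpow, hn, zpow_mul]
  have key : ∀ x ∈ P, ∀ y ∈ P, ⁅x, y⁆ * g * ⁅x, y⁆⁻¹ = g := by
    intro x hx y hy
    obtain ⟨a, ha⟩ := hact x hx
    obtain ⟨b, hb⟩ := hact y hy
    have h1 : (x * y) * g * (x * y)⁻¹ = (y * x) * g * (y * x)⁻¹ := by
      calc (x * y) * g * (x * y)⁻¹ = x * (y * g * y⁻¹) * x⁻¹ := by group
        _ = g ^ (a * b) := by rw [hb, hpow x a ha]
        _ = y * (x * g * x⁻¹) * y⁻¹ := by rw [ha, hpow y b hb, mul_comm]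
        _ = _ := by group
    have h2 : ⁅x, y⁆ * g * ⁅x, y⁆⁻¹ = (y * x)⁻¹⁻¹ * 1 * (y * x)⁻¹ * ((x * y) * ((y * x)⁻¹ * g * (y * x)) * (x * y)⁻¹) := by
      rw [commutatorElement_def]; group
    -- `(y x)⁻¹ g (y x)` is a power of `g`
    obtain ⟨c, hc⟩ := hact (y * x)⁻¹ (inv_mem (mul_mem hy hx))
    rw [inv_inv] at hc
    have h3 : (x * y) * ((y * x)⁻¹ * g * (y * x)) * (x * y)⁻¹ =
        (y * x) * ((y * x)⁻¹ * g * (y * x)) * (y * x)⁻¹ := by
      rw [hc, ← conj_zpow, ← conj_zpow, h1]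
    rw [h2, h3]
    group
  have h4 : ⁅P, P⁆ ≤ centralizer {g} := by
    rw [commutator_le]
    intro x hx y hy
    rw [mem_cent_iff]
    have := key x hx y hy
    rw [mul_inv_eq_iff_eq_mul] at this
    exact this.symm
  rw [hP] at h4
  intro x hx
  rw [mem_centralizer_iff]
  intro y hy
  obtain ⟨n, rfl⟩ := hgen' y hy
  have := mem_cent_iff.mp (h4 hx)
  exact (this.zpow_left n).eq

end fin

end Cfsg.Agent.H389.RSq
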