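import Cfsg.Agent.H389.R.Tool
import Cfsg.Agent.H389.R.Mult
import Cfsg.Agent.H389.R.Ctx
import Cfsg.Agent.H389.R.Pivot
import Cfsg.Agent.H389.R.RR
import Cfsg.Agent.H352.S3530.NT
import Cfsg.Agent.H417.S3530.Om
import Cfsg.Agent.H321.S3530.Types
import Cfsg.Agent.H347.S3530.PslBasics
import Cfsg.Agent.H393.S3530.PslLocal
import Cfsg.Agent.H220.S3530.CoreX
import Cfsg.Agent.H299.S3530.Counting
import Cfsg.Agent.H829.S3530.Ree
import Cfsg.Agent.H984.S3530.L2Ext
import Cfsg.Agent.H70.S3530.ReeExt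
import Cfsg.Agent.H748.S3530.Vis
import Cfsg.Agent.H35.S3530.NoCyc
import Cfsg.Agent.H35.S3530.Core
import Cfsg.Agent.H910.S3530.T2
import Cfsg.Agent.H295.S3530.Vm

/-!
# S3530: umbrella of the first waves (helper389)

Everything of `S3530_stub1.txt` and the finished parts of `S3530_stub2.txt`.
-/
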