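import Cfsg.Agent.H389.R.W1
import Cfsg.Agent.H488.S3530.LemX
import Cfsg.Agent.H431.S3530.Comp
import Cfsg.Agent.H872.S3530.ReeAut
import Cfsg.Agent.H354.S3530.Comb

/-!
# S3530: umbrella, second part (helper389)
-/
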