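import Cfsg.Agent.H389.R.W2
import Cfsg.Agent.H350.S3530.Counting
import Cfsg.Agent.H86.S3530.Sec
import Cfsg.Agent.H86.S3530.Up
import Cfsg.Agent.H881.S3530.Three
import Cfsg.Agent.H127.S3530.NoChief
import Cfsg.Agent.H127.S3530.KerBotA
import Cfsg.Agent.H127.S3530.SupTopA

/-!
# S3530: umbrella, third part (helper389)
-/
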