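import Cfsg.Agent.H389.R.W3
import Cfsg.Agent.H354.S3530.Common1
import Cfsg.Agent.H984.S3530.LemXApp
import Cfsg.Agent.H333.S3530.Ec
import Cfsg.Agent.H333.S3530.C4

/-!
# S3530: umbrella, fourth part (helper389)
-/
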