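import Cfsg.Agent.H389.R.W4
import Cfsg.Agent.H389.R.Common2
import Cfsg.Agent.H389.R.Red

/-!
# S3530: umbrella, fifth part (helper389)
-/
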